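import Groth.Agent.L16.Chow.Dense
import Groth.Agent.L23.CoprodFinite
import Mathlib.CategoryTheory.Extensive
import Mathlib.AlgebraicGeometry.IdealSheaf.Subscheme

/-!
# Chow's lemma, surjective form, over a quasi-compact quasi-separated base
-/

universe u

open CategoryTheory CategoryTheory.Limits AlgebraicGeometry TopologicalSpace

set_option autoImplicit false
set_option linter.style.haveILetI false
set_option backward.isDefEq.respectTransparency false
set_option backward.isDefEq.respectTransparency.types false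

noncomputable section

namespace Groth.L23.Chow

open CohB1 (ProjSpaceOver)
open CohB1.ProjSpaceOver (toBase)

/-- A finite family of finite morphisms gives a finite morphism from the disjoint union. -/
theorem isFinite_sigmaDesc {J : Type u} [Finite J] {W : J → Scheme.{u}} {X : Scheme.{u}} (f : ∀ j, W j ⟶ X)
    [∀ j, IsFinite (f j)] : IsFinite (Sigma.desc f) := by
  rw [IsZariskiLocalAtTarget.iff_of_iSup_eq_top (P := @IsFinite) _ (iSup_affineOpens_eq_top X)]
  intro B
  haveI : IsAffine (B.1 : Scheme.{u}) := B.2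
  haveI : ∀ j, IsFinite (pullback.fst B.1.ι (f j)) := fun j => inferInstance
  haveI : ∀ j, IsAffine (pullback B.1.ι (f j)) := fun j => isAffine_of_isAffineHom (pullback.fst B.1.ι (f j))
  have hau : IsUniversalColimit (Cofan.mk (∐ W) (Sigma.ι W)) :=
    FinitaryPreExtensive.isUniversal_finiteCoproducts (coproductIsCoproduct W)
  have hp := hau.isPullback_of_isColimit_left f (Sigma.desc f) B.1.ι (fun j => pullback.fst B.1.ι (f j))
    (fun j => pullback.snd B.1.ι (f j)) (fun j => IsPullback.of_hasPullback B.1.ι (f j))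
    (d := Cofan.mk (∐ fun j => pullback B.1.ι (f j)) (Sigma.ι _)) (coproductIsCoproduct _)
    (fun j => Sigma.ι_desc _ _)
  have h1 : Cofan.IsColimit.desc (coproductIsCoproduct fun j => pullback B.1.ι (f j))
      (fun j => pullback.fst B.1.ι (f j)) = Sigma.desc fun j => pullback.fst B.1.ι (f j) := by
    refine Sigma.hom_ext _ _ fun j => ?_
    simp [Cofan.IsColimit.desc, Sigma.ι, coproductIsCoproduct]
  rw [h1] at hp
  rw [← (hp.isoIsPullback _ _ (isPullback_morphismRestrict (Sigma.desc f) B.1)).inv_hom_id_assoc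
    (Sigma.desc f ∣_ B.1), MorphismProperty.cancel_left_of_respectsIso @IsFinite,
    IsPullback.isoIsPullback_hom_fst]
  exact Groth.L23.Coprod.isFinite_sigmaDesc _

variable {X S : Scheme.{u}}

/-- The intersection of a nonempty finite family of quasi-compact opens of a quasi-separated scheme is quasi-compact. -/
theorem isCompact_iInf_mem [QuasiSeparatedSpace X] {k : ℕ} {U : Fin k → X.Opens} (hU : ∀ i, IsCompact (U i : Set X))
    {J : Finset (Fin k)} (hJ : J.Nonempty) : IsCompact ((J.inf U : X.Opens) : Set X) := by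
  induction hJ using Finset.Nonempty.cons_induction with
  | singleton a => simpa using hU a
  | cons a s h hs ih =>
    rw [Finset.inf_cons, Opens.coe_inf]
    exact QuasiSeparatedSpace.inter_isCompact _ _ (U a).2 (hU a) (s.inf U).2 ih

/-- Chow's lemma without irreducibility assumptions: the modification is only surjective. -/
theorem exists_chow_surjective (f : X ⟶ S) [CompactSpace S] [QuasiSeparatedSpace S] [IsSeparated f]
    [LocallyOfFiniteType f] [QuasiCompact f] :
    ∃ (N : ℕ) (X' : Scheme.{u}) (π : X' ⟶ X) (q : X' ⟶ ProjSpaceOver N S),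
      IsImmersion q ∧ QuasiCompact q ∧ q ≫ toBase N S = π ≫ f ∧ IsProper π ∧ Surjective π := by
  classical
  haveI : CompactSpace X := QuasiCompact.compactSpace_of_compactSpace f
  haveI : QuasiSeparatedSpace X := quasiSeparatedSpace_of_quasiSeparated f
  obtain ⟨k, U, hUa, hUcov⟩ : ∃ (k : ℕ) (U : Fin k → X.Opens), (∀ i, IsAffineOpen (U i)) ∧ ∀ x, ∃ i, x ∈ U i := by
    let 𝒰 := X.affineCover.finiteSubcover
    obtain ⟨k, ⟨e⟩⟩ := Finite.exists_equiv_fin 𝒰.I₀
    refine ⟨k, fun i => (𝒰.f (e.symm i)).opensRange, fun i => ?_, fun x => ?_⟩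
    · haveI : IsAffine (𝒰.X (e.symm i)) := inferInstanceAs (IsAffine (X.affineCover.X _))
      exact isAffineOpen_opensRange _
    · obtain ⟨i, y, hy⟩ := 𝒰.exists_eq x
      exact ⟨e i, by show x ∈ (𝒰.f (e.symm (e i))).opensRange; rw [Equiv.symm_apply_apply]; exact ⟨y, hy⟩⟩
  -- the strata
  let Js : Type u := ULift.{u} {J : Finset (Fin k) // J.Nonempty}
  have hclosed : ∀ J : Js, IsClosed {x : X | ∀ i, i ∉ J.down.1 → x ∉ U i} := fun J => by
    rw [show {x : X | ∀ i, i ∉ J.down.1 → x ∉ U i} = ⋂ i, ⋂ (_ : i ∉ J.down.1), (U i : Set X)ᶜ by ext; simp]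
    exact isClosed_biInter fun i _ => (U i).2.isClosed_compl
  let I : Js → X.IdealSheafData := fun J => Scheme.IdealSheafData.vanishingIdeal ⟨_, hclosed J⟩
  let Z : Js → Scheme.{u} := fun J => (I J).subscheme
  let ι : ∀ J, Z J ⟶ X := fun J => (I J).subschemeι
  have hrange : ∀ J, Set.range (ι J) = {x : X | ∀ i, i ∉ J.down.1 → x ∉ U i} := fun J =>
    (I J).range_subschemeι.trans (Scheme.IdealSheafData.coe_support_vanishingIdeal _)
  let τ : (∐ Z) ⟶ X := Sigma.desc ι
  haveI : ∀ J, IsFinite (ι J) := fun J => inferInstanceAs (IsFinite (I J).subschemeι)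
  haveI : IsFinite τ := isFinite_sigmaDesc ι
  haveI : IsSeparated (τ ≫ f) := inferInstance
  haveI : LocallyOfFiniteType (τ ≫ f) := inferInstance
  haveI : QuasiCompact (τ ≫ f) := inferInstance
  haveI : CompactSpace (∐ Z : Scheme.{u}) := QuasiCompact.compactSpace_of_compactSpace τ
  haveI : QuasiSeparatedSpace (∐ Z : Scheme.{u}) := quasiSeparatedSpace_of_quasiSeparated τ
  -- the opens
  let σ : Js → Fin k → Fin k := fun J i => if i ∈ J.down.1 then i else J.down.2.choose
  have hσ : ∀ J i, σ J i ∈ J.down.1 := fun J i => by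
    by_cases h : i ∈ J.down.1
    · simp [σ, h]
    · simp [σ, h, J.down.2.choose_spec]
  let V : Fin k → (∐ Z : Scheme.{u}).Opens := fun i => ⨆ J, Sigma.ι Z J ''ᵁ (ι J ⁻¹ᵁ U (σ J i))
  let V₀ : (∐ Z : Scheme.{u}).Opens := ⨆ J, Sigma.ι Z J ''ᵁ (ι J ⁻¹ᵁ J.down.1.inf U)
  have hVa : ∀ i, IsAffineOpen (V i) := fun i => by
    refine IsAffineOpen.iSup_of_disjoint (fun J => ((hUa _).preimage (ι J)).image_of_isOpenImmersion _) ?_
    intro J J' h
    exact (disjoint_opensRange_sigmaι Z J J' h).mono (Scheme.Hom.image_le_opensRange _ _)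
      (Scheme.Hom.image_le_opensRange _ _)
  have hVcov : ∀ z, ∃ i, z ∈ V i := fun z => by
    obtain ⟨J, w, rfl⟩ := (sigmaOpenCover Z).exists_eq z
    obtain ⟨i, hi⟩ := hUcov (ι J w)
    have hiJ : i ∈ J.down.1 := by
      by_contra h
      exact (hrange J).le ⟨w, rfl⟩ i h hi
    exact ⟨i, Opens.mem_iSup.2 ⟨J, w, by simp [σ, hiJ]; exact hi, rfl⟩⟩
  have hV₀le : ∀ i, V₀ ≤ V i := fun i => iSup_le fun J => le_trans
    ((Sigma.ι Z J).image_mono ((ι J).preimage_mono (Finset.inf_le (hσ J i))))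
    (le_iSup (fun J => Sigma.ι Z J ''ᵁ (ι J ⁻¹ᵁ U (σ J i))) J)
  have hV₀c : IsCompact (V₀ : Set (∐ Z : Scheme.{u})) := by
    rw [show (V₀ : Set (∐ Z : Scheme.{u})) = ⋃ J, Sigma.ι Z J '' (ι J ⁻¹' (J.down.1.inf U : X.Opens)) by
      simp [V₀]]
    refine isCompact_iUnion fun J => IsCompact.image ?_ (Scheme.Hom.continuous _)
    exact (ι J).isClosedEmbedding.isCompact_preimage (isCompact_iInf_mem (fun i => (hUa i).isCompact) J.down.2)
  haveI : CompactSpace V₀.toScheme := isCompact_iff_compactSpace.1 hV₀c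
  haveI : QuasiCompact V₀.ι := quasiCompact_of_compactSpace V₀.ι
  choose n e hei he using fun i => Groth.L16.Chow.exists_immersion_affine (τ ≫ f) (hVa i)
  obtain ⟨N, X', π, q, hq, hqπ, hπ, hiso, -⟩ := Groth.L16.Chow.exists_chow (τ ≫ f) V n e he hVcov V₀ hV₀le
  haveI := hiso
  refine ⟨N, X', π ≫ τ, q, hq, ?_, by rw [hqπ, Category.assoc], inferInstance, ⟨fun x => ?_⟩⟩
  · haveI : QuasiCompact (q ≫ toBase N S) := by rw [hqπ]; infer_instance
    exact QuasiCompact.of_comp q (toBase N S)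
  · obtain ⟨i, hi⟩ := hUcov x
    let J : Js := ⟨⟨Finset.univ.filter fun j => x ∈ U j, i, by simpa using hi⟩⟩
    obtain ⟨w, hw⟩ : x ∈ Set.range (ι J) := (hrange J).ge fun j hj hxj => hj (by simpa [J] using hxj)
    have hmem : Sigma.ι Z J w ∈ V₀ := by
      refine Opens.mem_iSup.2 ⟨J, w, ?_, rfl⟩
      show ι J w ∈ ((J.down.1.inf U : X.Opens) : Set X)
      rw [hw, Opens.coe_finset_inf]
      simp [J]
    refine ⟨((π ⁻¹ᵁ V₀).ι) (inv (π ∣_ V₀) ⟨_, hmem⟩), ?_⟩
    rw [Scheme.Hom.comp_apply, ← Scheme.Hom.comp_apply (π ⁻¹ᵁ V₀).ι π, ← morphismRestrict_ι, Scheme.Hom.comp_apply,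
      ← Scheme.Hom.comp_apply (inv _), IsIso.inv_hom_id]
    show τ (Sigma.ι Z J w) = x
    rw [← Scheme.Hom.comp_apply, Sigma.ι_desc]
    exact hw

end Groth.L23.Chow
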