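import Groth.Agent.L23.Chow.ProjPair

/-!
# A quasi-compact separated space is, after a proper surjective scheme cover, immersed in some `ℙⁿ × itself`
-/

universe u

open CategoryTheory CategoryTheory.Limits AlgebraicGeometry AlgSp TopologicalSpace Opposite

set_option autoImplicit false
set_option linter.style.haveILetI false
set_option linter.unusedSectionVars false
set_option backward.isDefEq.respectTransparency false
set_option backward.isDefEq.respectTransparency.types false

noncomputable section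

namespace Groth.L23.Chow

variable {S : Scheme.{u}} [S.IsSeparated]

/-- A quasi-compact separated space maps to a quasi-compact open subscheme of the base. -/
theorem exists_qc_base {Y : Sp S} (hY : IsAlgSpace Y) (hYqc : IsQuasiCompactSp Y) :
    ∃ (O : S.Opens) (_ : CompactSpace O), Nonempty (Y ⟶ (yon S).obj (Over.mk O.ι)) := by
  let one : Over S := Over.mk (𝟙 S)
  have ht : IsTerminal ((yon S).obj one) := IsTerminal.isTerminalObj _ _ Over.mkIdTerminal
  let p := ht.from Y
  haveI := compactSpace_of_qcSp hYqc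
  obtain ⟨O, hO, hsub⟩ := exists_qc_opens
    ((isCompact_range (Points.continuous_map p)).image (Points.schemeHomeo one).symm.continuous)
  refine ⟨O, hO, ?_⟩
  let j : Over.mk O.ι ⟶ one := Over.homMk O.ι (Category.comp_id _)
  obtain ⟨f, -⟩ := (exists_factor_iff (repWith_map (g := j) (inferInstanceAs (IsOpenImmersion O.ι))) p).2 (by
    rintro y hy
    have hy' : (Points.schemeHomeo one).symm y ∈ O := hsub ⟨y, hy, rfl⟩
    refine ⟨Points.schemeHomeo (Over.mk O.ι) ⟨_, hy'⟩, ?_⟩
    rw [Points.map_yon_map_apply]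
    exact (Points.schemeHomeo one).apply_symm_apply y)
  exact ⟨f⟩

/-- A proper surjective cover of a quasi-compact separated space by a quasi-compact separated scheme `T` such that
`T ⟶ ℙᵏ × Y` is an immersion. -/
theorem exists_immersed_cover {Y : Sp S} (hY : IsAlgSpace Y) (hYqc : IsQuasiCompactSp Y) (hYs : IsSeparatedSp Y) :
    ∃ (T : Over S) (ν : (yon S).obj T ⟶ Y) (k : ℕ) (σ : (yon S).obj T ⟶ (yon S).obj (PS k S) ⨯ Y),
      IsProperMor ν ∧ IsSurjectiveMor ν ∧ σ ≫ prod.snd = ν ∧ RepWith @IsImmersion σ ∧ CompactSpace T.left ∧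
        QuasiSeparatedSpace T.left := by
  obtain ⟨O, hOc, ⟨p⟩⟩ := exists_qc_base hY hYqc
  haveI := hOc
  let T₀ : Over S := Over.mk O.ι
  have hT₀s : IsSeparatedSp ((yon S).obj T₀) := by
    show RepWith _ _
    rw [repWith_diag_yon_iff]
    show IsClosedImmersion (pullback.diagonal O.ι)
    infer_instance
  haveI : QuasiSeparatedSpace T₀.left := by
    haveI : IsSeparated O.ι := inferInstance
    exact DimZero.quasiSeparatedSpace_of_iso (qsSp_of_sepSp hT₀s) (IsAlgSpace.yon_obj _) T₀ (𝟙 _)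
  haveI : CompactSpace T₀.left := hOc
  have hYqs := qsSp_of_sepSp hYs
  obtain ⟨I, i1, i2, i3, D, t, c, hc, e, hD, hDa, hDq, hfp, hπ, hfac⟩ :=
    Approx.exists_limit_fp hY hYqc hYqs (Y := ⟨_, IsAlgSpace.yon_obj T₀⟩) (qsSp_of_sepSp hT₀s) p
  haveI := i2
  haveI := i3
  obtain ⟨i₀, hi₀⟩ := Groth.L09.SpLimit.eventually_separated hD hDa hc (IsAlgSpace.yon_obj T₀) t (e.hom ≫ p)
    (fun i => by rw [← hfac i, Iso.hom_inv_id_assoc]) (fun i => (hDq i).1) (fun i => (hDq i).2)
    (qsSp_of_sepSp hT₀s) (sepMor_of_sepSp (sepSp_of_sepMor hYs (f := e.hom)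
      (repWith_of_isIso _)) _)
  have hsep : IsSeparatedMor (t.app i₀) := hi₀ i₀ (𝟙 _)
  let u : Y ⟶ D.obj i₀ := e.inv ≫ c.π.app i₀
  have hu : RepWith @IsAffineHom u := repWith_comp (repWith_of_isIso _) (hπ i₀)
  obtain ⟨Wa, νa, k, w, q, hνp, hνs, hw, hq, hqc, hqw⟩ := exists_projective_modification (hD i₀) hsep
    ⟨locP_mono (fun φ (_ : LocallyOfFinitePresentation φ) => inferInstanceAs (LocallyOfFiniteType φ)) (hfp i₀).1,
      (hfp i₀).2.1⟩
  haveI := hq
  haveI : IsOpenImmersion (Groth.L16.ProjSpace.overMap k O.ι) := MorphismProperty.of_isPullback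
    (P := @IsOpenImmersion) (Groth.L16.ProjSpace.isPullback_overMap k O.ι).flip inferInstance
  let β : Wa ⟶ PS k S := Over.homMk (q ≫ Groth.L16.ProjSpace.overMap k O.ι) (by
    show (q ≫ Groth.L16.ProjSpace.overMap k O.ι) ≫ CohB1.ProjSpaceOver.toBase k S = Wa.hom
    have hqw' : q ≫ CohB1.ProjSpaceOver.toBase k (O : Scheme) = w.left := hqw
    rw [Category.assoc, (Groth.L16.ProjSpace.isPullback_overMap k O.ι).w, reassoc_of% hqw']
    exact Over.w w)
  have hβ : RepWith @IsImmersion ((yon S).map β) :=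
    repWith_map (g := β) (inferInstanceAs (IsImmersion (q ≫ Groth.L16.ProjSpace.overMap k O.ι)))
  have hYa : IsSeparatedSp (D.obj i₀) := sepSp_of_sepMor hT₀s hsep
  have hg := isImmersion_prodLift hYa νa hβ
  let T := hu.1.pullback νa
  have sq := hu.1.isPullback νa
  let σ : (yon S).obj T ⟶ (yon S).obj (PS k S) ⨯ Y :=
    prod.lift ((yon S).map (hu.1.snd νa ≫ β)) (hu.1.fst νa)
  have hσ : IsPullback σ ((yon S).map (hu.1.snd νa)) (prod.map (𝟙 _) u) (prod.lift ((yon S).map β) νa) := by
    refine IsPullback.of_right ?_ ?_ (isPullback_map_snd ((yon S).obj (PS k S)) u)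
    · rw [prod.lift_snd, prod.lift_snd]
      exact sq
    · apply prod.hom_ext
      · simp [σ]
      · simp [σ, sq.w]
  have hT := IsAlgSpace.yon_obj T
  have hν : IsProperMor (hu.1.fst νa) :=
    isProperMor_of_isPullback (IsAlgSpace.yon_obj Wa) (hD i₀) hY sq.flip hνp
  refine ⟨T, hu.1.fst νa, k, σ, hν, surjective_snd_of_isPullback sq.flip hνs, prod.lift_snd _ _,
    repWith_of_isPullback hσ.flip hg,
    compactSpace_of_isQuasiCompactSp (hν.2.1.2 hY hYqc (𝟙 _) (𝟙 _) _ IsPullback.of_id_fst),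
    DimZero.quasiSeparatedSpace_of_iso (qsSp_of_sepSp (sepSp_of_sepMor hYs hν.1)) hT T (𝟙 _)⟩

end Groth.L23.Chow
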