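import Groth.Agent.L23.Chow.SpaceSurj
import Groth.Agent.L23.AffineMor
import Groth.Agent.L18.SegreOver
import Groth.Agent.L16.ProjSpace.BaseChange
import Groth.Agent.L09.SpLimit.Separated
import Groth.Agent.L23.Approx.LimitFp
import Groth.Agent.L23.StalkRep

/-!
# Products with projective spaces, and separated targets of projective modifications
-/

universe u

open CategoryTheory CategoryTheory.Limits AlgebraicGeometry AlgSp TopologicalSpace

set_option autoImplicit false
set_option linter.style.haveILetI false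
set_option linter.unusedSectionVars false
set_option backward.isDefEq.respectTransparency false
set_option backward.isDefEq.respectTransparency.types false

noncomputable section

namespace Groth.L23.Chow

variable {S : Scheme.{u}}

/-- Projective space over the base, as an `S`-scheme. -/
abbrev PS (n : ℕ) (S : Scheme.{u}) : Over S := Over.mk (CohB1.ProjSpaceOver.toBase n S)

theorem isPullback_map_snd (A : Sp S) {Y Z : Sp S} (u : Y ⟶ Z) :
    IsPullback (prod.snd : A ⨯ Y ⟶ Y) (prod.map (𝟙 A) u) u prod.snd := by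
  refine IsPullback.mk' (prod.map_snd _ _).symm (fun T l l' h₁ h₂ => ?_)
    (fun T a b w => ⟨prod.lift (b ≫ prod.fst) a, prod.lift_snd _ _, ?_⟩)
  · exact prod.hom_ext (by simpa using h₂ =≫ prod.fst) h₁
  · apply prod.hom_ext <;> simp [w]

theorem isPullback_map_fst (B : Sp S) {Y Z : Sp S} (u : Y ⟶ Z) :
    IsPullback (prod.fst : Y ⨯ B ⟶ Y) (prod.map u (𝟙 B)) u prod.fst := by
  refine IsPullback.mk' (prod.map_fst _ _).symm (fun T l l' h₁ h₂ => ?_)
    (fun T a b w => ⟨prod.lift a (b ≫ prod.snd), prod.lift_fst _ _, ?_⟩)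
  · exact prod.hom_ext h₁ (by simpa using h₂ =≫ prod.snd)
  · apply prod.hom_ext <;> simp [w]

theorem separated_prod_fst (A : Sp S) {B : Sp S} (hB : IsSeparatedSp B) :
    IsSeparatedMor (prod.fst : A ⨯ B ⟶ A) := by
  let m : pullback (prod.fst : A ⨯ B ⟶ A) prod.fst ⟶ B ⨯ B :=
    prod.lift (pullback.fst _ _ ≫ prod.snd) (pullback.snd _ _ ≫ prod.snd)
  have sq : IsPullback (prod.snd : A ⨯ B ⟶ B) (pullback.diagonal (prod.fst : A ⨯ B ⟶ A)) (Limits.diag B) m := by
    refine IsPullback.mk' (by apply prod.hom_ext <;> simp [m]) (fun T l l' h₁ h₂ => ?_)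
      (fun T a b w => ⟨b ≫ pullback.fst _ _, ?_, ?_⟩)
    · simpa using h₂ =≫ pullback.fst _ _
    · simpa [m] using (w =≫ prod.fst).symm
    · apply pullback.hom_ext
      · simp
      · apply prod.hom_ext
        · simp [pullback.condition]
        · have e₁ := w =≫ prod.fst
          have e₂ := w =≫ prod.snd
          simp [m] at e₁ e₂
          simp [← e₁, ← e₂]
  exact repWith_of_isPullback sq hB

theorem sepSp_of_sepMor {X Y : Sp S} (hY : IsSeparatedSp Y) {f : X ⟶ Y} (hf : IsSeparatedMor f) :
    IsSeparatedSp X := by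
  show RepWith _ (Limits.diag X)
  rw [show Limits.diag X = pullback.diagonal f ≫ prod.lift (pullback.fst f f) (pullback.snd f f) by ext <;> simp]
  exact repWith_comp hf (repWith_of_isPullback (isPullback_diag (IsPullback.of_hasPullback f f)) hY)

theorem sepMor_of_sepSp {X Y : Sp S} (hX : IsSeparatedSp X) (f : X ⟶ Y) : IsSeparatedMor f := by
  have : Mono (prod.lift (pullback.fst f f) (pullback.snd f f)) := isPullback_lift (IsPullback.of_hasPullback f f)
  refine repWith_of_comp_mono (m := prod.lift (pullback.fst f f) (pullback.snd f f)) ?_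
  show RepWith _ _
  rwa [show pullback.diagonal f ≫ prod.lift (pullback.fst f f) (pullback.snd f f) = Limits.diag X by ext <;> simp]

theorem qsSp_of_sepSp {X : Sp S} (hX : IsSeparatedSp X) : IsQuasiSeparatedSp X :=
  repWith_mono (fun φ (_ : IsClosedImmersion φ) => inferInstanceAs (QuasiCompact φ)) hX

/-- A fibre product of `S`-schemes over `S` represents the product. -/
theorem isIso_prodLift_yon {A B P : Over S} {a : P ⟶ A} {b : P ⟶ B}
    (h : IsPullback a.left b.left A.hom B.hom) : IsIso (prod.lift ((yon S).map a) ((yon S).map b)) := by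
  let one : Over S := Over.mk (𝟙 S)
  let A' : A ⟶ one := Over.homMk A.hom (Category.comp_id _)
  let B' : B ⟶ one := Over.homMk B.hom (Category.comp_id _)
  have hover : IsPullback a b A' B' := IsPullback.of_map (Over.forget S)
    (Over.OverMorphism.ext (by simpa [A', B'] using h.w)) h
  have sq := hover.map (yon S)
  have ht : IsTerminal ((yon S).obj one) := IsTerminal.isTerminalObj _ _ Over.mkIdTerminal
  refine ⟨⟨sq.lift prod.fst prod.snd (ht.hom_ext _ _), ?_, ?_⟩⟩
  · refine sq.hom_ext ?_ ?_ <;> simp
  · apply prod.hom_ext <;> simp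

/-- A map to a product is an immersion when a component is one and the other factor is separated. -/
theorem isImmersion_prodLift {W A B : Sp S} (hB : IsSeparatedSp B) {a : W ⟶ A} (b : W ⟶ B)
    (ha : RepWith @IsImmersion a) : RepWith @IsImmersion (prod.lift a b) := by
  refine repWith_of_comp_diagonal (q := (prod.fst : A ⨯ B ⟶ A)) (by rwa [prod.lift_fst]) ?_
  exact repWith_mono (fun φ (_ : IsClosedImmersion φ) => inferInstanceAs (IsImmersion φ)) (separated_prod_fst A hB)

/-- A quasi-compact subset of a scheme is in a quasi-compact open. -/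
theorem exists_qc_opens {T : Scheme.{u}} {K : Set T} (hK : IsCompact K) :
    ∃ O : T.Opens, CompactSpace O ∧ K ⊆ O := by
  obtain ⟨t, ht⟩ := hK.elim_finite_subcover (fun V : T.affineOpens => (V.1 : Set T)) (fun V => V.1.isOpen)
    (fun x _ => by
      obtain ⟨V, hV, hx, -⟩ := exists_isAffineOpen_mem_and_subset (U := (⊤ : T.Opens)) (x := x) trivial
      exact Set.mem_iUnion.2 ⟨⟨V, hV⟩, hx⟩)
  refine ⟨⟨⋃ V ∈ t, (V.1 : Set T), isOpen_biUnion fun V _ => V.1.isOpen⟩, isCompact_iff_compactSpace.1 ?_, ht⟩
  exact t.finite_toSet.isCompact_biUnion fun V _ => V.2.isCompact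

/-- Segre, in sheaves: the product of two projective spaces over the base is closed in a third one. -/
theorem exists_segre_map (S : Scheme.{u}) (n k : ℕ) :
    ∃ (m : ℕ) (θ : (yon S).obj (PS n S) ⨯ (yon S).obj (PS k S) ⟶ (yon S).obj (PS m S)),
      RepWith @IsImmersion θ := by
  obtain ⟨φ, hφ, hφw⟩ := Groth.L18.PS.segre_over S n k
  haveI := hφ
  let Q : Over S := Over.mk (pullback.fst (CohB1.ProjSpaceOver.toBase n S) (CohB1.ProjSpaceOver.toBase k S) ≫
    CohB1.ProjSpaceOver.toBase n S)
  let a : Q ⟶ PS n S := Over.homMk (pullback.fst _ _) rfl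
  let b : Q ⟶ PS k S := Over.homMk (pullback.snd _ _) pullback.condition.symm
  let p : Q ⟶ PS (n * k + n + k) S := Over.homMk φ hφw
  haveI := isIso_prodLift_yon (a := a) (b := b) (IsPullback.of_hasPullback _ _)
  exact ⟨_, inv (prod.lift ((yon S).map a) ((yon S).map b)) ≫ (yon S).map p,
    repWith_comp (repWith_of_isIso _) (repWith_map (g := p) (inferInstanceAs (IsImmersion φ)))⟩

end Groth.L23.Chow
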