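import Groth.Agent.L23.Chow.SchemeSurj
import Groth.Agent.L23.IntCover.Finite
import Groth.Agent.L23.MorCalc
import Groth.Agent.L23.DimZeroSpace
import Groth.Agent.L09.SpLimit.Derived
import Groth.Agent.L09.Filtration.Main

/-!
# A finite surjective scheme cover of a space separated and of finite type over a scheme
-/

universe u

open CategoryTheory CategoryTheory.Limits AlgebraicGeometry AlgSp

set_option autoImplicit false
set_option linter.style.haveILetI false
set_option backward.isDefEq.respectTransparency false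
set_option backward.isDefEq.respectTransparency.types false

noncomputable section

namespace Groth.L23.Chow

variable {S : Scheme.{u}} [QuasiSeparatedSpace S]

/-- A space separated and of finite type over a quasi-compact quasi-separated scheme has a proper surjective
modification immersed in a projective space over that scheme. -/
theorem exists_projective_modification {X : Sp S} (hX : IsAlgSpace X) {T : Over S} [CompactSpace T.left]
    [QuasiSeparatedSpace T.left] {p : X ⟶ (yon S).obj T} (hsep : IsSeparatedMor p) (hft : IsFiniteTypeMor p) :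
    ∃ (W : Over S) (g : (yon S).obj W ⟶ X) (n : ℕ) (w : W ⟶ T) (q : W.left ⟶ CohB1.ProjSpaceOver n T.left),
      IsProperMor g ∧ IsSurjectiveMor g ∧ (yon S).map w = g ≫ p ∧ IsImmersion q ∧ QuasiCompact q ∧
      q ≫ CohB1.ProjSpaceOver.toBase n T.left = w.left := by
  have hT := IsAlgSpace.yon_obj T
  have hTqc : IsQuasiCompactSp ((yon S).obj T) := isQuasiCompactSp_of_compactSpace
  have hTqs : IsQuasiSeparatedSp ((yon S).obj T) := by
    show RepWith _ _
    rw [repWith_diag_yon_iff]
    haveI : QuasiSeparated T.hom := .of_comp T.hom (terminal.from S)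
    show QuasiCompact (pullback.diagonal T.hom)
    infer_instance
  have hXqc : IsQuasiCompactSp X := hft.2 hT hTqc (𝟙 _) (𝟙 _) p IsPullback.of_id_fst
  have hXqs : IsQuasiSeparatedSp X := Groth.L09.SpLimit.qsSp_of_qsMor hTqs
    (repWith_mono (fun φ (_ : IsClosedImmersion φ) => inferInstanceAs (QuasiCompact φ)) hsep)
  obtain ⟨U, v, hU, hv, hvs⟩ := Qs.exists_affine_atlas hX hXqc
  obtain ⟨Q, γ, hγ, hγs, -⟩ := IntCover.exists_scheme_finite ⟨X, hX⟩ hXqc hXqs v hv hvs
  have hγf : RepWith @IsFinite γ := isFiniteMor_iff.1 hγ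
  have hγp : IsProperMor γ :=
    isProperMor_of_repWith (repWith_mono (fun φ (_ : IsFinite φ) => inferInstanceAs (IsProper φ)) hγf)
  obtain ⟨h, hh⟩ := (yon S).map_surjective (γ ≫ p)
  have hQ := IsAlgSpace.yon_obj Q
  have hr : Representable ((yon S).map h) := hT.representable_from_yon _
  have hs : IsSeparatedMor ((yon S).map h) := by rw [hh]; exact separated_comp hγp.1 hsep
  have hl : LocP @LocallyOfFiniteType ((yon S).map h) := by
    rw [hh]; exact locP_comp etLocal_lft hQ hX hT hγp.2.1.1 hft.1
  haveI : IsSeparated h.left := (repWith_yon_map_iff _ _).1 ((isSeparatedMor_iff hr).1 hs)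
  haveI : LocallyOfFiniteType h.left := hl (𝟙 _) (𝟙 _) h (repWith_id _ Q) (repWith_id _ T) (by simp)
  haveI : CompactSpace Q.left := compactSpace_of_isQuasiCompactSp (Groth.L09.SpLimit.qcSp_of_affine hX hXqc
    (repWith_mono (fun φ (_ : IsFinite φ) => inferInstanceAs (IsAffineHom φ)) hγf))
  haveI : QuasiCompact h.left := quasiCompact_of_compactSpace h.left
  obtain ⟨n, X', π, q, hq, hqc, hqπ, hπ, hπs⟩ := exists_chow_surjective h.left
  let W : Over S := Over.mk (π ≫ Q.hom)
  let π' : W ⟶ Q := Over.homMk π rfl
  have hπp : IsProperMor ((yon S).map π') :=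
    isProperMor_of_repWith ((repWith_yon_map_iff _ _).2 (inferInstanceAs (IsProper π)))
  refine ⟨W, (yon S).map π' ≫ γ, n, π' ≫ h, q, isProperMor_comp (IsAlgSpace.yon_obj W) hQ hX hπp hγp, ?_,
    by rw [Functor.map_comp, hh, Category.assoc], hq, hqc, hqπ⟩
  show Function.Surjective (Points.map ((yon S).map π' ≫ γ))
  intro x
  obtain ⟨y, rfl⟩ := hγs x
  obtain ⟨z, hz⟩ := surjective_map_of_repWith (repWith_map (g := π') (inferInstanceAs (Surjective π))) y
  exact ⟨z, by rw [Points.map_comp, hz]⟩

end Groth.L23.Chow
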