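import Groth.Agent.L23.Chow.SpaceSurj
import Groth.Agent.S1366
import Mathlib.RingTheory.Jacobson.Ideal

/-!
# Splitting off a proper clopen part of the special fibre over a henselian pair
-/

universe u

open CategoryTheory CategoryTheory.Limits AlgebraicGeometry AlgSp TopologicalSpace

set_option autoImplicit false
set_option linter.style.haveILetI false
set_option linter.unusedSectionVars false
set_option backward.isDefEq.respectTransparency false
set_option backward.isDefEq.respectTransparency.types false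

noncomputable section

namespace Groth.L23.Chow

variable {S : Scheme.{u}}

theorem isClosedMap_of_univClosed {X Y : Sp S} (hY : IsAlgSpace Y) {f : X ⟶ Y} (h : IsUnivClosedMor f) :
    IsClosedMap (Points.map f) := h hY (𝟙 Y) (𝟙 X) f IsPullback.of_id_fst

/-- A representable proper map of represented sheaves comes from a proper map of schemes. -/
theorem isProper_left {U V : Over S} {φ : U ⟶ V} (h : IsProperMor ((yon S).map φ)) : IsProper φ.left := by
  have hr : Representable ((yon S).map φ) := (IsAlgSpace.yon_obj V).representable_from_yon _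
  haveI : IsSeparated φ.left := (repWith_yon_map_iff _ _).1 ((isSeparatedMor_iff hr).1 h.1)
  haveI : LocallyOfFiniteType φ.left :=
    h.2.1.1 (𝟙 _) (𝟙 _) φ (repWith_id _ U) (repWith_id _ V) (by simp)
  haveI : UniversallyClosed φ.left :=
    (repWith_yon_map_iff _ _).1 ((repWith_universallyClosed_iff hr).2 h.2.2)
  exact ⟨⟩

/-- An open subspace with closed set of points is a closed subspace. -/
theorem closedImmersion_openSubι {X : Sp S} (O : Opens (Points X)) (hO : IsClosed (O : Set (Points X))) :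
    RepWith @IsClosedImmersion (openSubι O) := by
  have hj := repWith_openSubι (X := X) O
  refine repWith_of_snd hj.1 fun V φ => ?_
  haveI : IsOpenImmersion (hj.1.snd φ).left := repWith_snd hj φ
  have hr : Set.range (hj.1.snd φ).left = Points.ofPt φ ⁻¹' (O : Set (Points X)) := by
    rw [← Set.image_univ (f := (hj.1.snd φ).left), ← Set.preimage_univ (f := Points.ofPt (hj.1.fst φ)),
      ← preimage_image_map (hj.1.isPullback φ), Set.image_univ, range_openSubι]
  exact IsClosedImmersion.of_isPreimmersion _ (hr ▸ hO.preimage (Points.continuous_ofPt φ))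

/-- The set theoretic part: the special fibre and its clopen proper part determine a clopen part. -/
theorem exists_clopen_points {A : Type u} [CommRing A] (I : Ideal A) [HenselianRing A I]
    {X X₀ Y : Sp (Spec (CommRingCat.of A))} (hX : IsAlgSpace X) (hX₀ : IsAlgSpace X₀) (hY : IsAlgSpace Y)
    (s : X ⟶ (yon (Spec (CommRingCat.of A))).obj (Over.mk (𝟙 _)))
    (hs1 : IsSeparatedMor s) (hs2 : IsFiniteTypeMor s)
    (i₀ : X₀ ⟶ X)
    (s₀ : X₀ ⟶ (yon (Spec (CommRingCat.of A))).obj (Over.mk (Spec.map (CommRingCat.ofHom (Ideal.Quotient.mk I)))))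
    (hX₀sq : IsPullback i₀ s₀ s ((yon (Spec (CommRingCat.of A))).map
      (Over.homMk (Spec.map (CommRingCat.ofHom (Ideal.Quotient.mk I))) (Category.comp_id _) :
        Over.mk (Spec.map (CommRingCat.ofHom (Ideal.Quotient.mk I))) ⟶ Over.mk (𝟙 _))))
    (jY : Y ⟶ X₀) (hY1 : RepWith @IsOpenImmersion jY) (hY2 : RepWith @IsClosedImmersion jY)
    (hY3 : IsProperMor (jY ≫ s₀)) :
    ∃ (O : Opens (Points X)) (V : Over (Spec (CommRingCat.of A))) (h : (yon _).obj V ⟶ X),
      IsClosed (O : Set (Points X)) ∧ Set.range (Points.map h) = O ∧ IsProperMor (h ≫ s) ∧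
      Points.map i₀ ⁻¹' (O : Set (Points X)) = Set.range (Points.map jY) := by
  let one : Over (Spec (CommRingCat.of A)) := Over.mk (𝟙 _)
  let c : Over (Spec (CommRingCat.of A)) := Over.mk (Spec.map (CommRingCat.ofHom (Ideal.Quotient.mk I)))
  let ι₀ : c ⟶ one := Over.homMk (Spec.map (CommRingCat.ofHom (Ideal.Quotient.mk I))) (Category.comp_id _)
  haveI : CompactSpace one.left := inferInstanceAs (CompactSpace (Spec (CommRingCat.of A)))
  haveI : QuasiSeparatedSpace one.left := inferInstanceAs (QuasiSeparatedSpace (Spec (CommRingCat.of A)))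
  obtain ⟨T, g, n, w, q, hg, hgs, hw, hq, hqc, hqw⟩ := exists_projective_modification hX hs1 hs2
  haveI := hq
  haveI := hqc
  have hone := IsAlgSpace.yon_obj one
  have hc := IsAlgSpace.yon_obj c
  have hT := IsAlgSpace.yon_obj T
  have hwT : w.left = T.hom := by simpa using Over.w w
  have hTs : IsSeparatedMor ((yon (Spec (CommRingCat.of A))).map w) := by rw [hw]; exact separated_comp hg.1 hs1
  haveI : IsSeparated T.hom := hwT ▸ (repWith_yon_map_iff _ _).1 ((isSeparatedMor_iff (hone.representable_from_yon _)).1 hTs)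
  have hTl : LocP @LocallyOfFiniteType ((yon (Spec (CommRingCat.of A))).map w) := by
    rw [hw]; exact locP_comp etLocal_lft hT hX hone hg.2.1.1 hs2.1
  haveI : LocallyOfFiniteType T.hom := hwT ▸ hTl (𝟙 _) (𝟙 _) w (repWith_id _ T) (repWith_id _ one) (by simp)
  haveI : QuasiCompact T.hom := by
    rw [← hwT, ← hqw]
    exact MorphismProperty.comp_mem _ _ _ hqc (inferInstanceAs (QuasiCompact
      (CohB1.ProjSpaceOver.toBase n (Spec (CommRingCat.of A)))))
  -- the special fibre of `T`
  let P : Over (Spec (CommRingCat.of A)) := Over.mk (pullback.fst T.hom c.hom ≫ T.hom)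
  let a : P ⟶ T := Over.homMk (pullback.fst T.hom c.hom) rfl
  let b : P ⟶ c := Over.homMk (pullback.snd T.hom c.hom) pullback.condition.symm
  have habw : a ≫ w = b ≫ ι₀ := Over.OverMorphism.ext (by
    show pullback.fst T.hom c.hom ≫ w.left = pullback.snd T.hom c.hom ≫ c.hom
    rw [hwT, pullback.condition])
  have sqP : IsPullback a b w ι₀ := IsPullback.of_map (Over.forget (Spec (CommRingCat.of A))) habw
    (IsPullback.of_iso (IsPullback.of_hasPullback T.hom c.hom) (Iso.refl _) (Iso.refl _) (Iso.refl _) (Iso.refl _)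
      (by simp [a]) (by simp [b]) (by simp [hwT]) (by simp [ι₀, c]))
  have e0 : ((yon (Spec (CommRingCat.of A))).map a ≫ g) ≫ s = (yon (Spec (CommRingCat.of A))).map b ≫ (yon (Spec (CommRingCat.of A))).map ι₀ := by
    rw [Category.assoc, ← hw, ← Functor.map_comp, ← Functor.map_comp, habw]
  let g₀ : (yon (Spec (CommRingCat.of A))).obj P ⟶ X₀ := hX₀sq.lift ((yon (Spec (CommRingCat.of A))).map a ≫ g) ((yon (Spec (CommRingCat.of A))).map b) e0
  have hg₀i : g₀ ≫ i₀ = (yon (Spec (CommRingCat.of A))).map a ≫ g := hX₀sq.lift_fst _ _ _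
  have hg₀s : g₀ ≫ s₀ = (yon (Spec (CommRingCat.of A))).map b := hX₀sq.lift_snd _ _ _
  have sqg : IsPullback ((yon (Spec (CommRingCat.of A))).map a) g₀ g i₀ := by
    refine IsPullback.of_bot ?_ hg₀i.symm hX₀sq
    rw [← hw, hg₀s]
    exact sqP.map (yon (Spec (CommRingCat.of A)))
  have hg₀ : IsProperMor g₀ := isProperMor_of_isPullback hT hX hX₀ sqg hg
  -- the part over `Y`
  have sqV := hY1.1.isPullback g₀
  let V := hY1.1.pullback g₀
  haveI : IsOpenImmersion (hY1.1.snd g₀).left := repWith_snd hY1 g₀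
  haveI : IsClosedImmersion (hY1.1.snd g₀).left := repWith_snd hY2 g₀
  let Y' : Scheme.Opens (pullback T.hom c.hom) := Scheme.Hom.opensRange (hY1.1.snd g₀).left
  have hVp : IsProperMor ((yon (Spec (CommRingCat.of A))).map (hY1.1.snd g₀ ≫ b)) := by
    rw [Functor.map_comp, ← hg₀s, ← reassoc_of% sqV.w]
    exact isProperMor_comp (IsAlgSpace.yon_obj V) hY hc
      (isProperMor_of_isPullback (IsAlgSpace.yon_obj P) hX₀ hY sqV.flip hg₀) hY3
  haveI : IsProper ((hY1.1.snd g₀).left ≫ pullback.snd T.hom c.hom) := isProper_left hVp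
  have hY'p : IsProper (Y'.ι ≫ pullback.snd T.hom c.hom) := by
    have e := IsOpenImmersion.isoOfRangeEq_hom_fac Y'.ι (hY1.1.snd g₀).left (by rw [Scheme.Opens.range_ι]; rfl)
    rw [← e, Category.assoc]
    infer_instance
  obtain ⟨Wo, hWc, hWp, hWY⟩ := Groth.Agent.S1366.result I T.hom Y'
    ((hY1.1.snd g₀).left.isClosedEmbedding.isClosed_range) hY'p
  -- the two closed parts of `X`
  have hgc := isClosedMap_of_univClosed hX hg.2.2
  have hcl : IsClosedMap (Points.ofPt g) := by
    rw [ofPt_eq_comp]; exact hgc.comp (Points.schemeHomeo T).isClosedMap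
  have hsurj : Function.Surjective (Points.ofPt g) := by
    rw [ofPt_eq_comp]; exact hgs.comp (Points.schemeEquiv T).surjective
  have hg₀surj : Function.Surjective (Points.ofPt g₀) := by
    rw [ofPt_eq_comp]; exact (surjective_snd_of_isPullback sqg hgs).comp (Points.schemeEquiv P).surjective
  have hi₀ : Function.Injective (Points.map i₀) := injective_map_of_repWith
    (repWith_mono (Q := (@UniversallyInjective : MorphismProperty Scheme.{u}))
      (fun φ (_ : IsClosedImmersion φ) => inferInstanceAs (UniversallyInjective φ))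
      (repWith_of_isPullback hX₀sq.flip (repWith_map (g := ι₀) (IsClosedImmersion.spec_of_surjective
        (CommRingCat.ofHom (Ideal.Quotient.mk I)) Ideal.Quotient.mk_surjective))))
  have hbase : ∀ t, Points.map s (Points.ofPt g t) = Points.ofScheme one (w.left t) := fun t => by
    rw [Points.map_ofPt, ← hw, ofPt_map]
  have hY'mem : ∀ z : P.left, z ∈ Y' ↔ Points.ofPt g₀ z ∈ Set.range (Points.map jY) := fun z => by
    show z ∈ Set.range (hY1.1.snd g₀).left ↔ z ∈ Points.ofPt g₀ ⁻¹' Set.range (Points.map jY)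
    rw [← Set.image_univ (f := Points.map jY), preimage_image_map sqV, Set.preimage_univ, Set.image_univ]
  have hWz : ∀ z : P.left, a.left z ∈ Wo ↔ Points.ofPt g₀ z ∈ Set.range (Points.map jY) := fun z => by
    rw [← hY'mem, ← hWY]; rfl
  -- a point of `T` over the special fibre
  have hlift : ∀ t : T.left, w.left t ∈ Set.range c.hom →
      ∃ z : P.left, a.left z = t := fun t ht => by
    obtain ⟨x, hx⟩ := ht
    obtain ⟨z, hz, -⟩ := Scheme.Pullback.exists_preimage_pullback (f := T.hom) (g := c.hom) t x (by rw [hx, hwT]; rfl)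
    exact ⟨z, hz⟩
  have hiz : ∀ z : P.left, Points.map i₀ (Points.ofPt g₀ z) = Points.ofPt g (a.left z) := fun z => by
    rw [Points.map_ofPt, hg₀i, ofPt_comp]
  have hkey : ∀ t t' : T.left, t ∈ Wo → w.left t ∈ Set.range c.hom →
      Points.ofPt g t = Points.ofPt g t' → t' ∈ Wo := fun t t' ht hr e => by
    have hb : w.left t' = w.left t := by
      have := congrArg (Points.map s) e
      rw [hbase, hbase] at this
      exact ((Points.schemeEquiv one).injective this).symm
    obtain ⟨z, rfl⟩ := hlift t hr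
    obtain ⟨z', rfl⟩ := hlift t' (by rw [hb]; exact hr)
    have : Points.ofPt g₀ z = Points.ofPt g₀ z' := hi₀ (by rw [hiz, hiz, e])
    rw [hWz] at ht ⊢
    rwa [← this]
  have hA : IsClosed (Points.ofPt g '' (Wo : Set T.left)) := hcl _ hWc
  have hBc : IsClosed (Points.ofPt g '' (Wo : Set T.left)ᶜ) := hcl _ Wo.isOpen.isClosed_compl
  have hdisj : Points.ofPt g '' (Wo : Set T.left) ∩ Points.ofPt g '' (Wo : Set T.left)ᶜ = ∅ := by
    rw [Set.eq_empty_iff_forall_notMem]
    intro x hx
    let C : Set Wo := Wo.ι ⁻¹' (Points.ofPt g ⁻¹'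
      (Points.ofPt g '' (Wo : Set T.left) ∩ Points.ofPt g '' (Wo : Set T.left)ᶜ))
    have hC : IsClosed C := ((hA.inter hBc).preimage (Points.continuous_ofPt g)).preimage Wo.ι.continuous
    have hCc := hWp.toUniversallyClosed
    have hD : IsClosed ((Wo.ι ≫ T.hom) '' C) := Scheme.Hom.isClosedMap (Wo.ι ≫ T.hom) _ hC
    obtain ⟨t, ht, htx⟩ := hx.1
    have htC : (⟨t, ht⟩ : Wo) ∈ C := by
      show Points.ofPt g (Wo.ι ⟨t, ht⟩) ∈ Points.ofPt g '' (Wo : Set T.left) ∩ Points.ofPt g '' (Wo : Set T.left)ᶜ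
      rw [Scheme.Opens.ι_apply]
      rw [htx]; exact hx
    let pt : PrimeSpectrum A := (Wo.ι ≫ T.hom) ⟨t, ht⟩
    obtain ⟨m, hm, hle⟩ := Ideal.exists_le_maximal _ pt.2.ne_top
    let mp : PrimeSpectrum A := ⟨m, hm.isPrime⟩
    have hm' : mp ∈ closure ({pt} : Set (PrimeSpectrum A)) := (PrimeSpectrum.le_iff_mem_closure pt mp).1 hle
    have hsub : ({pt} : Set (PrimeSpectrum A)) ⊆ (Wo.ι ≫ T.hom) '' C := Set.singleton_subset_iff.2 ⟨_, htC, rfl⟩
    have hmD : mp ∈ (Wo.ι ≫ T.hom) '' C := hD.closure_subset (closure_mono hsub hm')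
    obtain ⟨⟨t₁, ht₁⟩, ht₁C, hm₁⟩ := hmD
    have hrange : w.left t₁ ∈ Set.range c.hom := by
      rw [hwT]
      show T.hom t₁ ∈ Set.range (PrimeSpectrum.comap (Ideal.Quotient.mk I))
      rw [range_comap_of_surjective _ (Ideal.Quotient.mk I) Ideal.Quotient.mk_surjective, Ideal.mk_ker]
      have : T.hom t₁ = mp := hm₁
      rw [this]
      exact (HenselianRing.jac (R := A) (I := I)).trans (Ideal.jacobson_bot (R := A) ▸
        Ring.jacobson_le_of_isMaximal m)
    obtain ⟨t₂, ht₂, he⟩ := ht₁C.2
    exact ht₂ (hkey t₁ t₂ ht₁ hrange he.symm)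
  have hcompl : (Points.ofPt g '' (Wo : Set T.left))ᶜ = Points.ofPt g '' (Wo : Set T.left)ᶜ := by
    apply subset_antisymm
    · intro x hx
      obtain ⟨t, rfl⟩ := hsurj x
      exact ⟨t, fun ht => hx ⟨t, ht, rfl⟩, rfl⟩
    · intro x hx hx'
      exact (Set.eq_empty_iff_forall_notMem.1 hdisj x) ⟨hx', hx⟩
  let O : Opens (Points X) := ⟨Points.ofPt g '' (Wo : Set T.left), by rw [← isClosed_compl_iff, hcompl]; exact hBc⟩
  let Vo : Over (Spec (CommRingCat.of A)) := Over.mk (Wo.ι ≫ T.hom)
  let jo : Vo ⟶ T := Over.homMk Wo.ι rfl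
  refine ⟨O, Vo, (yon (Spec (CommRingCat.of A))).map jo ≫ g, hA, ?_, ?_, ?_⟩
  · rw [range_map_yon]
    show Set.range (Points.ofPt ((yon (Spec (CommRingCat.of A))).map jo ≫ g)) = Points.ofPt g '' (Wo : Set T.left)
    rw [← Scheme.Opens.range_ι, ← Set.range_comp]
    exact congrArg Set.range (funext fun v => ofPt_comp jo g v)
  · rw [Category.assoc, ← hw, ← Functor.map_comp]
    refine isProperMor_of_repWith (repWith_map (g := jo ≫ w) ?_)
    show IsProper (Wo.ι ≫ w.left)
    rw [hwT]; exact hWp
  · ext x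
    constructor
    · rintro ⟨t, ht, e⟩
      obtain ⟨z, rfl⟩ := hg₀surj x
      rw [hiz] at e
      have hr : w.left (a.left z) ∈ Set.range c.hom := ⟨b.left z, by
        rw [hwT]; exact (congrArg (fun f : P.left ⟶ (Spec (CommRingCat.of A)) => f z) (pullback.condition (f := T.hom) (g := c.hom))).symm⟩
      have hr' : w.left t ∈ Set.range c.hom := by
        have := congrArg (Points.map s) e
        rw [hbase, hbase] at this
        rw [(Points.schemeEquiv one).injective this]; exact hr
      exact (hWz z).1 (hkey t _ ht hr' e)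
    · intro hx
      obtain ⟨z, rfl⟩ := hg₀surj x
      exact ⟨a.left z, (hWz z).2 hx, (hiz z).symm⟩

end Groth.L23.Chow
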